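import Cfsg.Agent.Lib.Golay.Systems.OrbitSplit
import Cfsg.Agent.Lib.Golay.Systems.SextetChecks
import Cfsg.Agent.Lib.Golay.Systems.SelfWalks

/-!
Kernel check of one set of orbit walks.
-/

set_option autoImplicit false
set_option maxRecDepth 20000

namespace CfsgLib.Golay

theorem sxSx_ok_orbits : orbitsOK sextTree sxSxRef sxSxGens
    [(sxSxW0, 100909206, 1), (sxSxW3, 104544, 90), (sxSxW1, 553776, 240), (sxSxW2, 29868, 1440)] = true := by
  decide +kernel

theorem sxSx_ok : classOK sextTree sxSxRef sxSxGens sxSxW0 100909206 1 = true ∧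
    classOK sextTree sxSxRef sxSxGens sxSxW3 104544 90 = true ∧
    classOK sextTree sxSxRef sxSxGens sxSxW1 553776 240 = true ∧
    classOK sextTree sxSxRef sxSxGens sxSxW2 29868 1440 = true ∧
    valsOK sextTree sxSxRef [100909206, 104544, 553776, 29868] = true :=
  have h := classOK_of_orbitsOK sextTree_ok sxSx_ok_orbits
  ⟨h.1 (sxSxW0, 100909206, 1) (by simp), h.1 (sxSxW3, 104544, 90) (by simp), h.1 (sxSxW1, 553776, 240) (by simp),
    h.1 (sxSxW2, 29868, 1440) (by simp), h.2⟩

end CfsgLib.Golay
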