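import Cfsg.Agent.Lib.Golay.Systems.OrbitSplit
import Cfsg.Agent.Lib.Golay.Systems.TrioChecks
import Cfsg.Agent.Lib.Golay.Systems.SelfWalks

/-!
Kernel check of one set of orbit walks.
-/

set_option autoImplicit false
set_option maxRecDepth 20000

namespace CfsgLib.Golay

theorem trTr_ok_orbits : orbitsOK trioTree trTrRef trTrGens
    [(trTrW4, 844425131458572, 1), (trTrW3, 281475178070022, 42), (trTrW2, 201375747, 56),
     (trTrW1, 102809601, 1008), (trTrW0, 53526528, 2688)] = true := by decide +kernel

theorem trTr_ok : classOK trioTree trTrRef trTrGens trTrW4 844425131458572 1 = true ∧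
    classOK trioTree trTrRef trTrGens trTrW3 281475178070022 42 = true ∧
    classOK trioTree trTrRef trTrGens trTrW2 201375747 56 = true ∧
    classOK trioTree trTrRef trTrGens trTrW1 102809601 1008 = true ∧
    classOK trioTree trTrRef trTrGens trTrW0 53526528 2688 = true ∧
    valsOK trioTree trTrRef [844425131458572, 281475178070022, 201375747, 102809601, 53526528] = true :=
  have h := classOK_of_orbitsOK trioTree_ok trTr_ok_orbits
  ⟨h.1 (trTrW4, 844425131458572, 1) (by simp), h.1 (trTrW3, 281475178070022, 42) (by simp),
    h.1 (trTrW2, 201375747, 56) (by simp), h.1 (trTrW1, 102809601, 1008) (by simp),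
    h.1 (trTrW0, 53526528, 2688) (by simp), h.2⟩

end CfsgLib.Golay
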